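import Groth.Agent.Lib.PushFin12.Basic
import Groth.Agent.Lib.Norm11.Main
import Groth.Agent.Lib.CodimOne28.Main
import Groth.Agent.Lib.TensorMod.Invertible
import Groth.Agent.Lib.RelSpecB.Basic
import Groth.Prelude.Def_FinCov

/-!
# Covers of degree `d` and locally free direct images
-/

set_option autoImplicit false
set_option maxHeartbeats 400000
universe u

set_option linter.style.haveILetI false
set_option backward.isDefEq.respectTransparency false

open CategoryTheory CategoryTheory.Limits AlgebraicGeometry Opposite TopologicalSpace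

namespace Groth.Agent.FinCov29

open Groth.Agent.M1 Groth.Agent.P1Split

variable {X Y : Scheme.{u}} (f : X ⟶ Y)

/-- The rank of a finite flat morphism is the length of a basis of the direct image. -/
theorem finrank_eq_of_isBas [Flat f] [IsFinite f] {U : Y.Opens} (hU : IsAffineOpen U) {r : ℕ}
    {e : Fin r → Γ((Coh.push f).obj (Coh.structureModule X), U)}
    (he : IsBas ((Coh.push f).obj (Coh.structureModule X)) U e) {y : Y} (hy : y ∈ U) :
    f.finrank y = r := by
  letI alg := (f.app U).hom.toAlgebra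
  let b := (Norm11.isABas_of_isBas he).basis
  let p : PrimeSpectrum Γ(Y, U) := hU.primeIdealOf ⟨y, hy⟩
  have hp : hU.fromSpec p = y := hU.fromSpec_primeIdealOf _
  have h1 := Scheme.Hom.finrank_of_isPullback _ _ _ _
    (CodimOne28.isPullback_fromSpec f hU (hU.preimage f) rfl) p
  rw [hp] at h1
  rw [← h1, ← Scheme.Hom.app_eq_appLE]
  haveI : Module.Free Γ(Y, U) Γ(X, f ⁻¹ᵁ U) := Module.Free.of_basis b
  haveI : Module.Finite Γ(Y, U) Γ(X, f ⁻¹ᵁ U) := Module.Finite.of_basis b
  haveI : Nontrivial Γ(Y, U) := p.nontrivial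
  refine (Scheme.Hom.finrank_SpecMap_algebraMap Γ(Y, U) Γ(X, f ⁻¹ᵁ U) p).trans ?_
  rw [Module.rankAtStalk_eq_finrank_of_free, Pi.natCast_def, Module.finrank_eq_card_basis b,
    Fintype.card_fin]
  rfl

theorem exists_affine_isBas {M : Y.Modules} {D : Y.Opens} {r : ℕ} {e : Fin r → Γ(M, D)}
    (he : IsBas M D e) {y : Y} (hy : y ∈ D) :
    ∃ (U : Y.Opens) (e' : Fin r → Γ(M, U)), IsAffineOpen U ∧ y ∈ U ∧ IsBas M U e' := by
  obtain ⟨U, hU, hyU, hle⟩ := exists_isAffineOpen_mem_and_subset (X := Y) (x := y) (U := D) hy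
  exact ⟨U, _, hU, hyU, he.mres hle⟩

theorem isFinLocFreeOfRank_of_bases {M : Y.Modules} {d : ℕ}
    (h : ∀ y : Y, ∃ (U : Y.Opens) (e : Fin d → Γ(M, U)), y ∈ U ∧ IsBas M U e) :
    FlatMod.IsFinLocFreeOfRank d M := by
  intro y
  obtain ⟨U, e, hy, he⟩ := h y
  have hle : U.ι ''ᵁ ⊤ ≤ U := by rw [Scheme.Hom.image_top_eq_opensRange, Scheme.Opens.opensRange_ι]
  obtain ⟨φ⟩ := CurveCoh17.nonempty_iso_freeMod_of_isBas
    (CurveCoh17.isBas_restrict U.ι M (D := ⊤) (he.mres hle))
  exact ⟨U, hy, ⟨φ.symm⟩⟩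

/-- A cover of degree `d` is the same as an affine morphism with direct image locally free of rank `d`. -/
theorem isCover_iff (d : ℕ) : FinCov.IsCover f d ↔
    IsAffineHom f ∧ FlatMod.IsFinLocFreeOfRank d
      ((Scheme.Modules.pushforward f).obj (Coh.structureModule X)) := by
  constructor
  · rintro ⟨hcl, hrank⟩
    obtain ⟨ha, hlf⟩ := (PushFin12.finLocFree_iff f).2 hcl
    refine ⟨ha, isFinLocFreeOfRank_of_bases fun y => ?_⟩
    haveI := hcl.1
    haveI := hcl.2.1
    obtain ⟨D, r, e, hyD, he⟩ := Norm11.exists_isBas_nhd' _ hlf y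
    obtain ⟨U, e', hU, hyU, he'⟩ := exists_affine_isBas he hyD
    obtain rfl : r = d := (finrank_eq_of_isBas f hU he' hyU).symm.trans (hrank y)
    exact ⟨U, e', hyU, he'⟩
  · rintro ⟨ha, hlf⟩
    have hcl := (PushFin12.finLocFree_iff f).1 ⟨ha, M2.isFinLocFree_of_ofRank hlf⟩
    refine ⟨hcl, fun y => ?_⟩
    haveI := hcl.1
    haveI := hcl.2.1
    obtain ⟨D, e, hyD, he⟩ := exists_isBas_nhd hlf y
    obtain ⟨U, e', hU, hyU, he'⟩ := exists_affine_isBas he hyD
    exact finrank_eq_of_isBas f hU he' hyU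

/-- The relative spectrum of an algebra which is locally free of rank `d` is a cover of degree `d`. -/
theorem isCover_π (A : RelSpec.QCAlg X) (d : ℕ) (hA : FlatMod.IsFinLocFreeOfRank d A.toModule) :
    FinCov.IsCover A.π d := by
  haveI := RelSpecB.isIso_gammaMap A
  refine (isCover_iff A.π d).2 ⟨inferInstance, isFinLocFreeOfRank_of_bases fun x => ?_⟩
  obtain ⟨D, e, hxD, he⟩ := exists_isBas_nhd hA x
  let γ : ∀ V : X.Opens, Γ(A.spec, A.π ⁻¹ᵁ V) ≃+* A.presheaf.obj (op V) := fun V =>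
    (asIso (A.gammaMap.app (op V))).commRingCatIsoToRingEquiv
  have hγs : ∀ (V : X.Opens) (c : Γ(X, V)), γ V (A.π.app V c) = (A.str.app (op V)).hom c := fun V c =>
    ConcreteCategory.congr_hom (NatTrans.congr_app A.π_c_gammaMap (op V)) c
  have hγr : ∀ {V W : X.Opens} (h : W ≤ V) (a : Γ(A.spec, A.π ⁻¹ᵁ V)),
      γ W (A.spec.presheaf.map (homOfLE (A.π.preimage_mono h)).op a) =
        A.presheaf.map (homOfLE h).op (γ V a) := fun h a =>
    ConcreteCategory.congr_hom (A.gammaMap.naturality (homOfLE h).op) a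
  refine ⟨D, fun i => (γ D).symm (e i), hxD, fun V hV => ?_⟩
  refine ((γ V).toEquiv.comp_bijective _).1 ?_
  refine Eq.mp (congrArg Function.Bijective (funext fun c => ?_)) (he V hV)
  show _ = γ V (∑ i, A.π.app V (c i) *
    A.spec.presheaf.map (homOfLE (A.π.preimage_mono hV)).op ((γ D).symm (e i)))
  rw [map_sum]
  refine Finset.sum_congr rfl fun i _ => ?_
  rw [map_mul, hγs, hγr, RingEquiv.apply_symm_apply]
  rfl

end Groth.Agent.FinCov29
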