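import Groth.Agent.Lib.Trace12.Dbl
import Groth.Agent.Lib.CurveCoh17.Bases

/-!
# A double algebra is locally free of rank two
-/

set_option autoImplicit false
universe u

set_option linter.style.haveILetI false
set_option backward.isDefEq.respectTransparency false

open CategoryTheory CategoryTheory.Limits AlgebraicGeometry Opposite TopologicalSpace

namespace Groth.Agent.FinCov29

open Groth.Agent.M1 Groth.Agent.P1Split Groth.Agent.Trace12

variable {X : Scheme.{u}}

theorem isFinLocFreeOfRank_two (L : X.Modules) (hL : PicF.IsInvertible L)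
    (m : CohB1.tensorMod L L ⟶ Coh.structureModule X) (A : RelSpec.QCAlg X) (j : L ⟶ A.toModule)
    (h : FinCov.IsDblAlg L m A j) : FlatMod.IsFinLocFreeOfRank 2 A.toModule := by
  have hdec : ∀ (V : X.Opens) (a : Γ(A.toModule, V)), ∃ (s : Γ(X, V)) (l : Γ(L, V)),
      asRing A a = (A.str.app (op V)).hom s + asRing A (j.app V l) := fun V a => by
    obtain ⟨⟨s, l⟩, hsl⟩ := (h.1 V).2 (asRing A a)
    exact ⟨s, l, hsl.symm⟩
  have hbasis : ∀ {W : X.Opens} {g : Γ(L, W)}, Twist.IsGen L W g →
      IsBas (r := 2) A.toModule W ![asMod A (1 : A.presheaf.obj (op W)), j.app W g] := by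
    intro W g hg V hV
    have e : (fun c : Fin 2 → Γ(X, V) =>
        ∑ i, c i • mres A.toModule hV (![asMod A (1 : A.presheaf.obj (op W)), j.app W g] i)) =
        (fun p : Γ(X, V) × Γ(L, V) => asMod A ((A.str.app (op V)).hom p.1 + asRing A (j.app V p.2))) ∘
          fun c => (c 0, c 1 • mres L hV g) := by
      funext c
      rw [Fin.sum_univ_two]
      simp only [Matrix.cons_val_zero, Matrix.cons_val_one, Function.comp_apply,
        Scheme.Modules.Hom.app_smul, app_mres]
      show (A.str.app (op V)).hom (c 0) * A.presheaf.map (homOfLE hV).op 1 + _ = _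
      rw [map_one, mul_one]
    rw [e]
    refine Function.Bijective.comp (h.1 V) ⟨fun c c' hcc => ?_, fun p => ?_⟩
    · obtain ⟨h0, h1⟩ := Prod.ext_iff.1 hcc
      funext i
      fin_cases i
      · exact h0
      · exact (hg V hV).1 h1
    · obtain ⟨c, hc⟩ := (hg V hV).2 p.2
      exact ⟨![p.1, c], Prod.ext rfl hc⟩
  intro x
  obtain ⟨D, g, hxD, hg⟩ := Groth.Agent.ProjUP.exists_isGen_of_invertible hL x
  have hle : D.ι ''ᵁ ⊤ ≤ D := by rw [Scheme.Hom.image_top_eq_opensRange, Scheme.Opens.opensRange_ι]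
  have hb := CurveCoh17.isBas_restrict D.ι A.toModule ((hbasis hg).mres hle)
  obtain ⟨φ⟩ := CurveCoh17.nonempty_iso_freeMod_of_isBas hb
  exact ⟨D, hxD, ⟨φ.symm⟩⟩

end Groth.Agent.FinCov29
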