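import Groth.Agent.Lib.Ample18.Sections
import Groth.Agent.Lib.Twist.Pullback
import Groth.Agent.Lib.Twist.UniversalExist
import Groth.Agent.Lib.RelFPH13.Geo
import Groth.Prelude.Def_FinCov

/-!
# The algebra `O ⊕ L` of a pairing on an invertible module
-/

set_option autoImplicit false
set_option maxHeartbeats 400000
universe u

set_option linter.style.haveILetI false
set_option backward.isDefEq.respectTransparency false

open CategoryTheory CategoryTheory.Limits AlgebraicGeometry Opposite TopologicalSpace

noncomputable section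

namespace Groth.Agent.FinCov29.Dbl

open Groth.Agent.M1

variable {X : Scheme.{u}} {L : X.Modules} (hL : PicF.IsInvertible L)
  (m : CohB1.tensorMod L L ⟶ Coh.structureModule X)

/-- The pairing on sections. -/
def pr (U : X.Opens) (l l' : Γ(L, U)) : Γ(X, U) := m.app U (M2.tsec L L l l')

theorem pr_add_left (U : X.Opens) (l l' t : Γ(L, U)) : pr m U (l + l') t = pr m U l t + pr m U l' t := by
  unfold pr; rw [M2.tsec_add_left]; exact map_add _ _ _

theorem pr_add_right (U : X.Opens) (l t t' : Γ(L, U)) : pr m U l (t + t') = pr m U l t + pr m U l t' := by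
  unfold pr; rw [M2.tsec_add_right]; exact map_add _ _ _

theorem pr_smul_left (U : X.Opens) (r : Γ(X, U)) (l t : Γ(L, U)) : pr m U (r • l) t = r * pr m U l t := by
  unfold pr; rw [M2.tsec_smul_left, Scheme.Modules.Hom.app_smul]; rfl

theorem pr_smul_right (U : X.Opens) (r : Γ(X, U)) (l t : Γ(L, U)) : pr m U l (r • t) = r * pr m U l t := by
  unfold pr; rw [M2.tsec_smul_right, Scheme.Modules.Hom.app_smul]; rfl

theorem ores_pr {U V : X.Opens} (h : V ≤ U) (l t : Γ(L, U)) :
    ores h (pr m U l t) = pr m V (mres L h l) (mres L h t) := by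
  unfold pr
  refine (app_mres m h (M2.tsec L L l t)).symm.trans ?_
  exact congrArg _ (M2.res_tsec h l t)

include hL in
theorem exists_gen_le {U : X.Opens} {x : X} (hx : x ∈ U) :
    ∃ (W : X.Opens) (g : Γ(L, W)), x ∈ W ∧ W ≤ U ∧ Twist.IsGen L W g := by
  obtain ⟨D, g, hxD, hg⟩ := Groth.Agent.ProjUP.exists_isGen_of_invertible hL x
  exact ⟨D ⊓ U, _, ⟨hxD, hx⟩, inf_le_right, hg.mres inf_le_left⟩

theorem exists_smul {W : X.Opens} {g : Γ(L, W)} (hg : Twist.IsGen L W g) (l : Γ(L, W)) :
    ∃ a : Γ(X, W), l = a • g := by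
  obtain ⟨a, ha⟩ := (hg W le_rfl).2 l
  exact ⟨a, by rw [← ha, mres_id]⟩

include hL in
theorem pr_comm (U : X.Opens) (l t : Γ(L, U)) : pr m U l t = pr m U t l := by
  refine TopCat.Presheaf.section_ext X.sheaf U _ _ fun x hx => ?_
  obtain ⟨W, g, hxW, hle, hg⟩ := exists_gen_le hL hx
  obtain ⟨a, ha⟩ := exists_smul hg (mres L hle l)
  obtain ⟨b, hb⟩ := exists_smul hg (mres L hle t)
  have key : ores hle (pr m U l t) = ores hle (pr m U t l) := by
    rw [ores_pr, ores_pr, ha, hb, pr_smul_left, pr_smul_right, pr_smul_left, pr_smul_right]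
    ring
  have h4 := congrArg (X.presheaf.germ W x hxW) key
  erw [X.presheaf.germ_res_apply, X.presheaf.germ_res_apply] at h4
  exact h4

include hL in
theorem pr_assoc (U : X.Opens) (l t w : Γ(L, U)) : pr m U l t • w = pr m U t w • l := by
  refine TopCat.Presheaf.section_ext ⟨L.presheaf, L.isSheaf⟩ U _ _ fun x hx => ?_
  obtain ⟨W, g, hxW, hle, hg⟩ := exists_gen_le hL hx
  obtain ⟨a, ha⟩ := exists_smul hg (mres L hle l)
  obtain ⟨b, hb⟩ := exists_smul hg (mres L hle t)
  obtain ⟨c, hc⟩ := exists_smul hg (mres L hle w)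
  have key : mres L hle (pr m U l t • w) = mres L hle (pr m U t w • l) := by
    rw [mres_smul, mres_smul, ores_pr, ores_pr, ha, hb, hc, pr_smul_left, pr_smul_right, pr_smul_left,
      pr_smul_right, smul_smul, smul_smul]
    congr 1
    ring
  have h4 := congrArg (L.presheaf.germ W x hxW) key
  erw [L.presheaf.germ_res_apply, L.presheaf.germ_res_apply] at h4
  exact h4

/-- Sections of `O ⊕ L`. -/
def Sec (_hL : PicF.IsInvertible L) (_m : CohB1.tensorMod L L ⟶ Coh.structureModule X) (U : X.Opens) : Type u :=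
  Γ(X, U) × Γ(L, U)

variable (U : X.Opens)

/-- A section from its two components. -/
def mk (s : Γ(X, U)) (l : Γ(L, U)) : Sec hL m U := (s, l)

instance : AddCommGroup (Sec hL m U) := inferInstanceAs (AddCommGroup (Γ(X, U) × Γ(L, U)))

variable {hL m U}

/-- First component. -/
def fst (a : Sec hL m U) : Γ(X, U) := Prod.fst a
/-- Second component. -/
def snd (a : Sec hL m U) : Γ(L, U) := Prod.snd a

theorem ext {a b : Sec hL m U} (h1 : fst a = fst b) (h2 : snd a = snd b) : a = b := Prod.ext h1 h2

@[simp] theorem fst_mk (s : Γ(X, U)) (l : Γ(L, U)) : fst (mk hL m U s l) = s := rfl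
@[simp] theorem snd_mk (s : Γ(X, U)) (l : Γ(L, U)) : snd (mk hL m U s l) = l := rfl
@[simp] theorem fst_add (a b : Sec hL m U) : fst (a + b) = fst a + fst b := rfl
@[simp] theorem snd_add (a b : Sec hL m U) : snd (a + b) = snd a + snd b := rfl
@[simp] theorem fst_zero : fst (0 : Sec hL m U) = 0 := rfl
@[simp] theorem snd_zero : snd (0 : Sec hL m U) = 0 := rfl

instance : One (Sec hL m U) := ⟨mk hL m U 1 0⟩
instance : Mul (Sec hL m U) :=
  ⟨fun a b => mk hL m U (fst a * fst b + pr m U (snd a) (snd b)) (fst a • snd b + fst b • snd a)⟩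

@[simp] theorem fst_one : fst (1 : Sec hL m U) = 1 := rfl
@[simp] theorem snd_one : snd (1 : Sec hL m U) = 0 := rfl
@[simp] theorem fst_mul (a b : Sec hL m U) :
    fst (a * b) = fst a * fst b + pr m U (snd a) (snd b) := rfl
@[simp] theorem snd_mul (a b : Sec hL m U) : snd (a * b) = fst a • snd b + fst b • snd a := rfl

theorem pr_zero_left (t : Γ(L, U)) : pr m U 0 t = 0 := by
  have := pr_smul_left m U 0 0 t
  rwa [zero_smul, zero_mul] at this

theorem pr_zero_right (t : Γ(L, U)) : pr m U t 0 = 0 := by
  have := pr_smul_right m U 0 t 0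
  rwa [zero_smul, zero_mul] at this

theorem mul_comm' (a b : Sec hL m U) : a * b = b * a := by
  refine ext ?_ ?_
  · simp only [fst_mul]; rw [pr_comm hL m, mul_comm]
  · simp only [snd_mul]; rw [add_comm]

theorem one_mul' (a : Sec hL m U) : 1 * a = a := by
  refine ext ?_ ?_ <;> simp [pr_zero_left]

theorem mul_assoc' (a b c : Sec hL m U) : a * b * c = a * (b * c) := by
  refine ext ?_ ?_
  · simp only [fst_mul, snd_mul, pr_add_left, pr_add_right, pr_smul_left, pr_smul_right]
    ring
  · simp only [fst_mul, snd_mul, add_smul, smul_add, smul_smul]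
    rw [pr_assoc hL m U (snd a) (snd b) (snd c)]
    module

theorem left_distrib' (a b c : Sec hL m U) : a * (b + c) = a * b + a * c := by
  refine ext ?_ ?_
  · simp only [fst_mul, fst_add, snd_add, pr_add_right]; ring
  · simp only [snd_mul, fst_add, snd_add, add_smul, smul_add]; abel

instance : CommRing (Sec hL m U) :=
  { (inferInstance : AddCommGroup (Sec hL m U)) with
    mul := (· * ·)
    one := 1
    mul_assoc := mul_assoc'
    one_mul := one_mul'
    mul_one := fun a => (mul_comm' a 1).trans (one_mul' a)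
    left_distrib := left_distrib'
    right_distrib := fun a b c => by rw [mul_comm', left_distrib', mul_comm' c a, mul_comm' c b]
    mul_comm := mul_comm'
    zero_mul := fun a => ext (by simp [pr_zero_left]) (by simp)
    mul_zero := fun a => ext (by simp [pr_zero_right]) (by simp) }

variable (hL m U)

/-- The structure map. -/
def incl : Γ(X, U) →+* Sec hL m U where
  toFun s := mk hL m U s 0
  map_one' := rfl
  map_mul' s t := ext (by simp [pr_zero_left]) (by simp)
  map_zero' := rfl
  map_add' s t := ext (by simp) (by simp)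

/-- Restriction. -/
def res {V U : X.Opens} (h : V ≤ U) : Sec hL m U →+* Sec hL m V where
  toFun a := mk hL m V (ores h (fst a)) (mres L h (snd a))
  map_one' := ext (by simp) (by simp)
  map_mul' a b := ext (by simp [ores_pr]) (by simp [mres_smul])
  map_zero' := ext (by simp) (by simp)
  map_add' a b := ext (by simp) (by simp)

/-- The presheaf of rings `O ⊕ L`. -/
def presheaf : TopCat.Presheaf CommRingCat.{u} X.carrier where
  obj U := CommRingCat.of (Sec hL m U.unop)
  map i := CommRingCat.ofHom (res hL m (leOfHom i.unop))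
  map_id U := CommRingCat.hom_ext (RingHom.ext fun a => ext (ores_id le_rfl _) (mres_id L le_rfl _))
  map_comp i j := CommRingCat.hom_ext (RingHom.ext fun a =>
    ext (hL := hL) (m := m) (ores_ores _ _ _).symm (mres_mres L _ _ _).symm)

theorem isSheaf : (presheaf hL m).IsSheaf := by
  rw [TopCat.Presheaf.isSheaf_iff_isSheafUniqueGluing]
  intro ι U sf hsf
  obtain ⟨s, hs, hs'⟩ := (TopCat.Presheaf.isSheaf_iff_isSheafUniqueGluing _).mp X.sheaf.property U
    (fun i => fst (sf i : Sec hL m (U i))) fun i j => congrArg (fun a : Sec hL m _ => fst a) (hsf i j)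
  obtain ⟨l, hl, hl'⟩ := TopCat.Sheaf.existsUnique_gluing ⟨L.presheaf, L.isSheaf⟩ U
    (fun i => snd (sf i : Sec hL m (U i))) fun i j => congrArg (fun a : Sec hL m _ => snd a) (hsf i j)
  refine ⟨mk hL m _ s l, fun i => ext (hs i) (hl i), fun t ht => ext ?_ ?_⟩
  · exact hs' _ fun i => congrArg (fun a : Sec hL m _ => fst a) (ht i)
  · exact hl' _ fun i => congrArg (fun a : Sec hL m _ => snd a) (ht i)

include hL in
/-- The quasi-coherent algebra `O ⊕ L`. -/
def alg : RelSpec.QCAlg X where
  presheaf := presheaf hL m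
  isSheaf := isSheaf hL m
  str :=
    { app := fun U => (CommRingCat.ofHom (incl hL m U.unop) :
        Γ(X, U.unop) ⟶ CommRingCat.of (Sec hL m U.unop))
      naturality := fun U V i => CommRingCat.hom_ext (RingHom.ext fun a =>
        (ext (hL := hL) (m := m) (rfl) (map_zero (mres L (leOfHom i.unop)).hom).symm)) }
  isQC U hU r := by
    haveI := Twist.isQCoh_of_isInvertible hL
    have hle := X.basicOpen_le r
    letI := (res hL m hle).toAlgebra
    show IsLocalization.Away (incl hL m U r) (Sec hL m (X.basicOpen r))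
    have hra : ∀ a, algebraMap (Sec hL m U) (Sec hL m (X.basicOpen r)) a = res hL m hle a := fun _ => rfl
    have hpow : ∀ n : ℕ, (res hL m hle (incl hL m U r)) ^ n = incl hL m _ (ores hle r ^ n) := fun n => by
      rw [map_pow, show res hL m hle (incl hL m U r) = incl hL m _ (ores hle r) from
        ext rfl (map_zero (mres L hle).hom)]
    have hmul : ∀ {V : X.Opens} (t : Γ(X, V)) (a : Sec hL m V),
        fst (incl hL m V t * a) = t * fst a ∧ snd (incl hL m V t * a) = t • snd a := fun t a => by
      constructor <;> simp [incl, pr_zero_left]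
    refine IsLocalization.Away.mk _ ?_ (fun s => ?_) (fun a b hab => ?_)
    · rw [hra, ← pow_one (res hL m hle (incl hL m U r)), hpow, pow_one]
      exact (RingedSpace.isUnit_res_basicOpen X.toRingedSpace r).map (incl hL m _)
    · haveI : IsLocalization.Away r Γ(X, X.basicOpen r) := hU.isLocalization_basicOpen r
      obtain ⟨n, a, ha⟩ := IsLocalization.Away.surj r (fst s)
      obtain ⟨k, t₀, ht⟩ := exists_pow_smul_eq_res_affine L hU r (snd s)
      refine ⟨n + k, mk hL m U (a * r ^ k) (r ^ n • t₀), ?_⟩
      rw [hra, hra, hpow]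
      have ha' : fst s * ores hle r ^ n = ores hle a := ha
      refine ext ?_ ?_
      · rw [mul_comm, (hmul _ _).1]
        show _ = ores hle (a * r ^ k)
        rw [map_mul, map_pow, ← ha', pow_add]; ring
      · rw [mul_comm, (hmul _ _).2]
        show _ = mres L hle (r ^ n • t₀)
        rw [mres_smul, map_pow, ht, smul_smul, pow_add]
    · haveI : IsLocalization.Away r Γ(X, X.basicOpen r) := hU.isLocalization_basicOpen r
      obtain ⟨⟨_, n, rfl⟩, hn⟩ := (IsLocalization.eq_iff_exists (Submonoid.powers r) Γ(X, X.basicOpen r)).mp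
        (congrArg (fun a => fst a) hab : ores hle (fst a) = ores hle (fst b))
      obtain ⟨k, hk⟩ := exists_pow_smul_eq_zero_affine L hU r (snd a - snd b) (by
        rw [map_sub]; exact sub_eq_zero.2 (congrArg (fun a => snd a) hab))
      rw [smul_sub, sub_eq_zero] at hk
      refine ⟨n + k, ext ?_ ?_⟩
      · rw [← map_pow, (hmul _ _).1, (hmul _ _).1, pow_add, mul_comm (r ^ n), mul_assoc, mul_assoc, hn]
      · rw [← map_pow, (hmul _ _).2, (hmul _ _).2, pow_add, ← smul_smul, ← smul_smul, hk]

/-- The inclusion of `L`. -/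
def inj : L ⟶ (alg hL m).toModule :=
  ⟨letI := (alg hL m).moduleSect
   PresheafOfModules.homMk
    { app := fun U => AddCommGrpCat.ofHom
        (AddMonoidHom.mk' (fun l : Γ(L, U.unop) => mk hL m U.unop 0 l) fun l l' => ext (hL := hL) (m := m) (add_zero (0 : Γ(X, U.unop))).symm rfl)
      naturality := fun U V i => by
        ext l
        exact ext (hL := hL) (m := m) (map_zero (ores (leOfHom i.unop)).hom).symm rfl }
    (fun U r l => by
      let r' : Γ(X, U.unop) := r
      let l' : Γ(L, U.unop) := l
      exact ext (hL := hL) (m := m)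
        (show (0 : Γ(X, U.unop)) = r' * 0 + pr m U.unop 0 l' by simp [pr_zero_left])
        (show r' • l' = r' • l' + (0 : Γ(X, U.unop)) • (0 : Γ(L, U.unop)) by simp))⟩

theorem isDblAlg : FinCov.IsDblAlg L m (alg hL m) (inj hL m) := by
  refine ⟨fun U => ?_, fun U l l' => ?_⟩
  · have e : (fun p : Γ(X, U) × Γ(L, U) => incl hL m U p.1 + mk hL m U 0 p.2) =
        fun p => mk hL m U p.1 p.2 := funext fun p => ext (hL := hL) (m := m) (by simp [incl]) (by simp [incl])
    show Function.Bijective fun p : Γ(X, U) × Γ(L, U) => incl hL m U p.1 + mk hL m U 0 p.2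
    rw [e]
    exact Function.bijective_id
  · show mk hL m U 0 l * mk hL m U 0 l' = incl hL m U (pr m U l l')
    exact ext (by simp [incl]) (by simp [incl])

end Groth.Agent.FinCov29.Dbl
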